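import Cfsg.Agent.KFacts.RgdChevCoord

/-!
# S3509, `³D₄(q)`, mixed families: abstract lemmas (helper39)

* `Hei` : root groups `b`, `c`, `d = b + c` of type `A₂`; `Hei.exists_y` : for a fixed element `v` of the product outside
  of `X_d` there is a fixed `y` with `1 ≠ [v, y] ∈ X_d`;
-/

set_option autoImplicit false
set_option linter.unusedSectionVars false

namespace Cfsg.Agent.H39.TD

section heis

/-- three root groups of type `A₂` -/
structure Hei {Y : Type*} [Group Y] {k : Type*} [Field k] (xb xc xd : k → Y) (N : k) : Prop where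
  hN : N ≠ 0
  addb : ∀ s t, xb (s + t) = xb s * xb t
  addc : ∀ s t, xc (s + t) = xc s * xc t
  addd : ∀ s t, xd (s + t) = xd s * xd t
  injd : Function.Injective xd
  com : ∀ s t, xb s * xc t = xd (N * s * t) * (xc t * xb s)
  cb : ∀ s t, xb t * xd s = xd s * xb t
  cc : ∀ s t, xc t * xd s = xd s * xc t

variable {Y : Type*} [Group Y] {k : Type*} [Field k] {xb xc xd : k → Y} {N : k}

/-- normal form -/
def nf (xb xc xd : k → Y) (r s t : k) : Y := xd t * (xb r * xc s)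

namespace Hei

variable (H : Hei xb xc xd N)

include H

theorem zd : xd 0 = 1 := by
  have := H.addd 0 0
  rw [add_zero] at this
  exact left_eq_mul.1 this

theorem zb : xb 0 = 1 := by
  have := H.addb 0 0
  rw [add_zero] at this
  exact left_eq_mul.1 this

theorem zc : xc 0 = 1 := by
  have := H.addc 0 0
  rw [add_zero] at this
  exact left_eq_mul.1 this

theorem com' (s t : k) : xc t * xb s = xd (-(N * s * t)) * (xb s * xc t) := by
  rw [H.com, ← mul_assoc, ← H.addd, neg_add_cancel, H.zd, one_mul]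

theorem mul (r s t r' s' t' : k) :
    nf xb xc xd r s t * nf xb xc xd r' s' t' = nf xb xc xd (r + r') (s + s') (t + t' - N * r' * s) := by
  unfold nf
  have h1 : xc s * xd t' = xd t' * xc s := H.cc _ _
  have h2 : xb r * xd t' = xd t' * xb r := H.cb _ _
  calc xd t * (xb r * xc s) * (xd t' * (xb r' * xc s')) = xd t * (xb r * (xc s * xd t') * (xb r' * xc s')) := by group
    _ = xd t * ((xb r * xd t') * (xc s * xb r') * xc s') := by rw [h1]; group
    _ = xd t * (xd t' * xb r * (xd (-(N * r' * s)) * (xb r' * xc s)) * xc s') := by rw [h2, H.com']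
    _ = xd t * (xd t' * (xb r * xd (-(N * r' * s))) * (xb r' * (xc s * xc s'))) := by group
    _ = xd t * (xd t' * (xd (-(N * r' * s)) * xb r) * (xb r' * (xc s * xc s'))) := by rw [H.cb]
    _ = (xd t * xd t' * xd (-(N * r' * s))) * ((xb r * xb r') * (xc s * xc s')) := by group
    _ = _ := by rw [← H.addb, ← H.addc, ← H.addd, ← H.addd, ← sub_eq_add_neg]

theorem comm (r s t r' s' t' : k) :
    nf xb xc xd r s t * nf xb xc xd r' s' t' = xd (N * (r * s' - r' * s)) *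
      (nf xb xc xd r' s' t' * nf xb xc xd r s t) := by
  rw [H.mul, H.mul]
  unfold nf
  rw [← mul_assoc (xd (N * (r * s' - r' * s))), ← H.addd, add_comm r' r, add_comm s' s]
  congr 2
  ring

theorem inj {r s t r' s' t' : k} (h : nf xb xc xd r s t = nf xb xc xd r' s' t') : r = r' ∧ s = s' ∧ t = t' := by
  have h1 := H.comm r s t 0 1 0
  have h2 := H.comm r' s' t' 0 1 0
  rw [h, h2] at h1
  have h3 := H.injd (mul_right_cancel h1)
  have h4 : r = r' := by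
    have h5 := mul_left_cancel₀ H.hN h3
    linear_combination -h5
  have h1 := H.comm r s t 1 0 0
  have h2 := H.comm r' s' t' 1 0 0
  rw [h, h2] at h1
  have h3 := H.injd (mul_right_cancel h1)
  have h5 : s = s' := by
    have h5 := mul_left_cancel₀ H.hN h3
    linear_combination h5
  subst h4 h5
  unfold nf at h
  exact ⟨rfl, rfl, H.injd (mul_right_cancel h)⟩

omit H in
theorem exists_ne [IsAlgClosed k] {Q : ℕ} (hQ : 2 ≤ Q) {κ : k} (hκ : κ ≠ 0) : ∃ t : k, t ≠ 0 ∧ κ * t ^ Q = t := by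
  obtain ⟨t, ht⟩ := IsAlgClosed.exists_pow_nat_eq κ⁻¹ (n := Q - 1) (by omega)
  have ht0 : t ≠ 0 := by
    rintro rfl
    rw [zero_pow (by omega)] at ht
    exact inv_ne_zero hκ ht.symm
  refine ⟨t, ht0, ?_⟩
  obtain ⟨n, rfl⟩ : ∃ n, Q = n + 1 := ⟨Q - 1, by omega⟩
  rw [Nat.add_sub_cancel] at ht
  rw [pow_succ, ht, ← mul_assoc, mul_inv_cancel₀ hκ, one_mul]

omit H in
theorem exists_sol [IsAlgClosed k] {Q : ℕ} (hQ : 2 ≤ Q) {κ δ : k} (hκ : κ ≠ 0) : ∃ t : k, κ * t ^ Q + δ = t := by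
  have hd : (Polynomial.C κ * Polynomial.X ^ Q - Polynomial.X + Polynomial.C δ : Polynomial k).degree ≠ 0 := by
    have h1 : (Polynomial.C κ * Polynomial.X ^ Q - Polynomial.X + Polynomial.C δ : Polynomial k).natDegree = Q := by
      have e1 : (Polynomial.C κ * Polynomial.X ^ Q - Polynomial.X + Polynomial.C δ : Polynomial k) =
          Polynomial.C κ * Polynomial.X ^ Q + (-Polynomial.X + Polynomial.C δ) := by ring
      rw [e1]
      have h2 : (-Polynomial.X + Polynomial.C δ : Polynomial k).degree < (Polynomial.C κ * Polynomial.X ^ Q).degree := by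
        rw [Polynomial.degree_C_mul_X_pow _ hκ]
        refine lt_of_le_of_lt (Polynomial.degree_add_le _ _) ?_
        rw [Polynomial.degree_neg, Polynomial.degree_X]
        refine max_lt ?_ ?_
        · exact_mod_cast (by omega : 1 < Q)
        · refine lt_of_le_of_lt Polynomial.degree_C_le ?_
          exact_mod_cast (by omega : 0 < Q)
      rw [Polynomial.natDegree_add_eq_left_of_degree_lt h2, Polynomial.natDegree_C_mul_X_pow _ _ hκ]
    intro h0
    rw [Polynomial.degree_eq_iff_natDegree_eq_of_pos (by omega : 0 < Q)|>.2 h1] at h0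
    have : (Q : WithBot ℕ) = 0 := h0
    have h3 : Q = 0 := by exact_mod_cast this
    omega
  obtain ⟨t, ht⟩ := IsAlgClosed.exists_root _ hd
  refine ⟨t, ?_⟩
  rw [Polynomial.IsRoot.def] at ht
  simp only [Polynomial.eval_add, Polynomial.eval_sub, Polynomial.eval_mul, Polynomial.eval_C, Polynomial.eval_pow,
    Polynomial.eval_X] at ht
  linear_combination ht

omit H in
/-- an element of `F_{Q²}` outside of `F_Q` -/
theorem exists_om [IsAlgClosed k] {Q : ℕ} (hQ : 2 ≤ Q) (hQk : (Q : k) = 0) : ∃ w : k, (w ^ Q) ^ Q = w ∧ w ^ Q ≠ w := by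
  have h0 : NeZero ((Q ^ 2 - 1 : ℕ) : k) := ⟨by
    have h1 : 1 ≤ Q ^ 2 := Nat.one_le_pow _ _ (by omega)
    rw [Nat.cast_sub h1, Nat.cast_pow, hQk]
    simp⟩
  have hpos : Q + 1 ≤ Q ^ 2 - 1 := by
    have : Q + 2 ≤ Q ^ 2 := by nlinarith
    omega
  obtain ⟨w, hw⟩ := (HasEnoughRootsOfUnity.exists_primitiveRoot k (Q ^ 2 - 1))
  have hw0 : w ≠ 0 := by
    rintro rfl
    have := hw.pow_eq_one
    rw [zero_pow (by omega)] at this
    exact zero_ne_one this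
  refine ⟨w, ?_, fun h => ?_⟩
  · rw [← pow_mul, ← sq]
    have e : Q ^ 2 = (Q ^ 2 - 1) + 1 := by omega
    rw [e, pow_succ, hw.pow_eq_one, one_mul]
  · have h1 : w ^ (Q - 1) = 1 := by
      have e : Q = (Q - 1) + 1 := by omega
      rw [e, pow_succ] at h
      exact mul_right_cancel₀ hw0 (by rw [h, one_mul])
    have h2 := hw.dvd_of_pow_eq_one _ h1
    have h3 := Nat.le_of_dvd (by omega) h2
    omega

/-- **fixed elements not commuting with `v`** -/
theorem exists_y [IsAlgClosed k] {Q : ℕ} (hQ : 2 ≤ Q) (hQk : (Q : k) = 0) {τ : Y →* Y} {κb κc κd : k} (hb : κb ≠ 0)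
    (hc : κc ≠ 0) (hd : κd ≠ 0) (τd : ∀ t, τ (xd t) = xd (κd * t ^ Q))
    (h : ((∀ t, τ (xb t) = xb (κb * t ^ Q)) ∧ ∀ t, τ (xc t) = xc (κc * t ^ Q)) ∨
      ((∀ t, τ (xb t) = xc (κb * t ^ Q)) ∧ ∀ t, τ (xc t) = xb (κc * t ^ Q)))
    {r s t : k} (hv : τ (nf xb xc xd r s t) = nf xb xc xd r s t) (hrs : r ≠ 0 ∨ s ≠ 0) :
    ∃ r' s' t', τ (nf xb xc xd r' s' t') = nf xb xc xd r' s' t' ∧ N * (r * s' - r' * s) ≠ 0 := by
  rcases h with ⟨τb, τc⟩ | ⟨τb, τc⟩
  · have hτ : ∀ r s t, τ (nf xb xc xd r s t) = nf xb xc xd (κb * r ^ Q) (κc * s ^ Q) (κd * t ^ Q) := by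
      intro r s t
      unfold nf
      rw [map_mul, map_mul, τb, τc, τd]
    rcases hrs with h0 | h0
    · obtain ⟨u, hu0, hu⟩ := exists_ne hQ hc
      refine ⟨0, u, 0, ?_, ?_⟩
      · rw [hτ, hu, zero_pow (by omega), mul_zero, mul_zero]
      · rw [zero_mul, sub_zero]
        exact mul_ne_zero H.hN (mul_ne_zero h0 hu0)
    · obtain ⟨u, hu0, hu⟩ := exists_ne hQ hb
      refine ⟨u, 0, 0, ?_, ?_⟩
      · rw [hτ, hu, zero_pow (by omega), mul_zero, mul_zero]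
      · rw [mul_zero, zero_sub]
        exact mul_ne_zero H.hN (neg_ne_zero.2 (mul_ne_zero hu0 h0))
  · have hτ : ∀ r s t, τ (nf xb xc xd r s t) =
        nf xb xc xd (κc * s ^ Q) (κb * r ^ Q) (κd * t ^ Q + -(N * (κc * s ^ Q) * (κb * r ^ Q))) := by
      intro r s t
      unfold nf
      rw [map_mul, map_mul, τb, τc, τd, H.com', ← mul_assoc, ← H.addd]
    obtain ⟨h1, h2, -⟩ := H.inj ((hτ r s t).symm.trans hv)
    have hr0 : r ≠ 0 := by
      rintro rfl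
      rw [zero_pow (by omega), mul_zero] at h2
      rcases hrs with h | h
      · exact h rfl
      · exact h h2.symm
    have hs0 : s ≠ 0 := by
      rintro rfl
      rw [zero_pow (by omega), mul_zero] at h1
      exact hr0 h1.symm
    obtain ⟨w, hw, hw1⟩ := exists_om (k := k) hQ hQk
    obtain ⟨t', ht'⟩ := exists_sol (δ := -(N * (r * w) * (s * w ^ Q))) hQ hd
    refine ⟨r * w, s * w ^ Q, t', ?_, ?_⟩
    · rw [hτ]
      have e1 : κc * (s * w ^ Q) ^ Q = r * w := by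
        rw [mul_pow, hw, ← mul_assoc, h1]
      have e2 : κb * (r * w) ^ Q = s * w ^ Q := by
        rw [mul_pow, ← mul_assoc, h2]
      rw [e1, e2, ht']
    · have e : N * (r * (s * w ^ Q) - r * w * s) = N * (r * s * (w ^ Q - w)) := by ring
      rw [e]
      exact mul_ne_zero H.hN (mul_ne_zero (mul_ne_zero hr0 hs0) (sub_ne_zero.2 hw1))

end Hei

end heis

/-! ### orbits of length three -/

section orb

open Matrix

variable {Y : Type*} [Group Y] {k : Type*} [Field k]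

/-- upper unitriangular -/
def uu (t : k) : SpecialLinearGroup (Fin 2) k := ⟨!![1, t; 0, 1], by simp [Matrix.det_fin_two]⟩

/-- lower unitriangular -/
def ll (t : k) : SpecialLinearGroup (Fin 2) k := ⟨!![1, 0; t, 1], by simp [Matrix.det_fin_two]⟩

/-- diagonal -/
def dd (a : k) (ha : a ≠ 0) : SpecialLinearGroup (Fin 2) k :=
  ⟨!![a, 0; 0, a⁻¹], by simp [Matrix.det_fin_two, mul_inv_cancel₀ ha]⟩

/-- three commuting images of `SL₂` permuted by `α` -/
structure Orb (α : MulAut Y) (φ : SpecialLinearGroup (Fin 2) k →* Y) (Q : ℕ) (κ : k) : Prop where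
  hκ : κ ≠ 0
  inj : ∀ t, φ (uu t) = 1 → t = 0
  c1 : ∀ a b, φ a * α (φ b) = α (φ b) * φ a
  c2 : ∀ a b, φ a * α (α (φ b)) = α (α (φ b)) * φ a
  up : ∀ t, α (α (α (φ (uu t)))) = φ (uu (κ * t ^ Q))
  lo : ∀ t, α (α (α (φ (ll t)))) = φ (ll (κ⁻¹ * t ^ Q))

theorem dd_uu {a : k} (ha : a ≠ 0) (t : k) : dd a ha * uu t * (dd a ha)⁻¹ = uu (a ^ 2 * t) := by
  rw [mul_inv_eq_iff_eq_mul]
  apply Subtype.ext
  show (!![a, 0; 0, a⁻¹] : Matrix (Fin 2) (Fin 2) k) * !![1, t; 0, 1] = !![1, a ^ 2 * t; 0, 1] * !![a, 0; 0, a⁻¹]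
  rw [Matrix.mul_fin_two, Matrix.mul_fin_two]
  congr 1
  simp only [mul_one, mul_zero, zero_mul, add_zero, zero_add, one_mul]
  congr 3
  field_simp

theorem dd_ll {a : k} (ha : a ≠ 0) (t : k) : dd a ha * ll t * (dd a ha)⁻¹ = ll ((a ^ 2)⁻¹ * t) := by
  rw [mul_inv_eq_iff_eq_mul]
  apply Subtype.ext
  show (!![a, 0; 0, a⁻¹] : Matrix (Fin 2) (Fin 2) k) * !![1, 0; t, 1] = !![1, 0; (a ^ 2)⁻¹ * t, 1] * !![a, 0; 0, a⁻¹]
  rw [Matrix.mul_fin_two, Matrix.mul_fin_two]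
  simp only [mul_one, mul_zero, zero_mul, add_zero, zero_add, one_mul]
  congr 4
  field_simp

theorem uu_add (s t : k) : uu (s + t) = uu s * uu t := by
  apply Subtype.ext
  show (!![1, s + t; 0, 1] : Matrix (Fin 2) (Fin 2) k) = !![1, s; 0, 1] * !![1, t; 0, 1]
  rw [Matrix.mul_fin_two]
  simp [add_comm]

theorem ll_add (s t : k) : ll (s + t) = ll s * ll t := by
  apply Subtype.ext
  show (!![1, 0; s + t, 1] : Matrix (Fin 2) (Fin 2) k) = !![1, 0; s, 1] * !![1, 0; t, 1]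
  rw [Matrix.mul_fin_two]
  simp

theorem uu_zero : uu (0 : k) = 1 := by
  have := uu_add (0 : k) 0
  rw [add_zero] at this
  exact left_eq_mul.1 this

theorem peel [Infinite k] {ψ : SpecialLinearGroup (Fin 2) k →* Y} (hψ : ∀ t, ψ (uu t) = 1 → t = 0) {x y : Y}
    (hx : ∀ g, ψ g * x = x * ψ g) (hy : ∀ g, ψ g * y = y * ψ g) {a b : k} (h : ψ (uu a) * x = ψ (uu b) * y) :
    a = b ∧ x = y := by
  obtain ⟨l, hl⟩ : ∃ l : k, l ∉ ({0, 1, -1} : Set k) := by
    by_contra hcon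
    push Not at hcon
    exact (Set.toFinite ({0, 1, -1} : Set k)).not_infinite (by
      rw [Set.eq_univ_of_forall hcon]
      exact Set.infinite_univ)
  simp only [Set.mem_insert_iff, Set.mem_singleton_iff, not_or] at hl
  obtain ⟨h0, h1, h2⟩ := hl
  have key : ∀ (c : k) (z : Y), (∀ g, ψ g * z = z * ψ g) →
      ψ (dd l h0) * (ψ (uu c) * z) * (ψ (dd l h0))⁻¹ * (ψ (uu c) * z)⁻¹ = ψ (uu ((l ^ 2 - 1) * c)) := by
    intro c z hz
    have e1 : z * (ψ (dd l h0))⁻¹ = (ψ (dd l h0))⁻¹ * z := by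
      have := hz (dd l h0)⁻¹
      rw [map_inv] at this
      exact this.symm
    calc ψ (dd l h0) * (ψ (uu c) * z) * (ψ (dd l h0))⁻¹ * (ψ (uu c) * z)⁻¹
        = ψ (dd l h0) * ψ (uu c) * (z * (ψ (dd l h0))⁻¹) * z⁻¹ * (ψ (uu c))⁻¹ := by group
      _ = ψ (dd l h0) * ψ (uu c) * ((ψ (dd l h0))⁻¹ * z) * z⁻¹ * (ψ (uu c))⁻¹ := by rw [e1]
      _ = ψ (dd l h0 * uu c * (dd l h0)⁻¹) * (ψ (uu c))⁻¹ := by
        rw [map_mul, map_mul, map_inv]; group
      _ = ψ (uu ((l ^ 2 - 1) * c)) := by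
        rw [dd_uu, mul_inv_eq_iff_eq_mul, ← map_mul, ← uu_add]
        congr 2
        ring
  have h3 := key a x hx
  rw [h, key b y hy] at h3
  have h4 : (l ^ 2 - 1) * b - (l ^ 2 - 1) * a = 0 := by
    apply hψ
    rw [sub_eq_add_neg, uu_add, map_mul, h3, ← map_mul, ← uu_add, add_neg_cancel, uu_zero, map_one]
  have h5 : (l ^ 2 - 1) * (b - a) = 0 := by rw [mul_sub]; exact h4
  have h6 : l ^ 2 - 1 ≠ 0 := by
    intro h7
    have h9 : l * l = 1 := by rw [← sq]; exact sub_eq_zero.1 h7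
    rcases mul_self_eq_one_iff.1 h9 with h8 | h8
    · exact h1 h8
    · exact h2 h8
  have h7 : a = b := (sub_eq_zero.1 ((mul_eq_zero.1 h5).resolve_left h6)).symm
  subst h7
  exact ⟨rfl, mul_left_cancel h⟩

/-- the product over the orbit -/
def Ph (α : MulAut Y) (φ : SpecialLinearGroup (Fin 2) k →* Y) (g : SpecialLinearGroup (Fin 2) k) : Y :=
  φ g * α (φ g) * α (α (φ g))

namespace Orb

variable {α : MulAut Y} {φ : SpecialLinearGroup (Fin 2) k →* Y} {Q : ℕ} {κ : k} (O : Orb α φ Q κ)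

include O

theorem c1' (a b : SpecialLinearGroup (Fin 2) k) : α (φ a) * α (α (φ b)) = α (α (φ b)) * α (φ a) := by
  rw [← map_mul, ← map_mul, O.c1]

theorem uniq [Infinite k] {a1 a2 a3 b1 b2 b3 : k} {w w' : Y} (hw : ∀ g, φ g * w = w * φ g)
    (hw1 : ∀ g, α (φ g) * w = w * α (φ g)) (hw2 : ∀ g, α (α (φ g)) * w = w * α (α (φ g)))
    (hw' : ∀ g, φ g * w' = w' * φ g)
    (hw1' : ∀ g, α (φ g) * w' = w' * α (φ g)) (hw2' : ∀ g, α (α (φ g)) * w' = w' * α (α (φ g)))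
    (h : φ (uu a1) * (α (φ (uu a2)) * (α (α (φ (uu a3))) * w)) =
      φ (uu b1) * (α (φ (uu b2)) * (α (α (φ (uu b3))) * w'))) : a1 = b1 ∧ a2 = b2 ∧ a3 = b3 ∧ w = w' := by
  have hA : ∀ (c2 c3 : k) (z : Y), (∀ g, φ g * z = z * φ g) → ∀ g,
      φ g * (α (φ (uu c2)) * (α (α (φ (uu c3))) * z)) = α (φ (uu c2)) * (α (α (φ (uu c3))) * z) * φ g := by
    intro c2 c3 z hz g
    calc φ g * (α (φ (uu c2)) * (α (α (φ (uu c3))) * z)) = (φ g * α (φ (uu c2))) * (α (α (φ (uu c3))) * z) := by group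
      _ = α (φ (uu c2)) * (φ g * α (α (φ (uu c3)))) * z := by rw [O.c1]; group
      _ = α (φ (uu c2)) * α (α (φ (uu c3))) * (φ g * z) := by rw [O.c2]; group
      _ = _ := by rw [hz]; group
  obtain ⟨e1, h1⟩ := peel O.inj (hA _ _ _ hw) (hA _ _ _ hw') h
  have hB : ∀ (c3 : k) (z : Y), (∀ g, α (φ g) * z = z * α (φ g)) → ∀ g,
      α (φ g) * (α (α (φ (uu c3))) * z) = α (α (φ (uu c3))) * z * α (φ g) := by
    intro c3 z hz g
    calc α (φ g) * (α (α (φ (uu c3))) * z) = (α (φ g) * α (α (φ (uu c3)))) * z := by group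
      _ = α (α (φ (uu c3))) * (α (φ g) * z) := by rw [O.c1']; group
      _ = _ := by rw [hz]; group
  obtain ⟨e2, h2⟩ := peel (ψ := (α : Y →* Y).comp φ) (fun t ht => O.inj t (by
    have h3 : α (φ (uu t)) = 1 := ht
    exact (map_eq_one_iff α α.injective).1 h3)) (hB _ _ hw1) (hB _ _ hw1') h1
  obtain ⟨e3, h3⟩ := peel (ψ := ((α : Y →* Y).comp (α : Y →* Y)).comp φ) (fun t ht => O.inj t (by
    have h3 : α (α (φ (uu t))) = 1 := ht
    exact (map_eq_one_iff α α.injective).1 ((map_eq_one_iff α α.injective).1 h3))) hw2 hw2' h2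
  exact ⟨e1, e2, e3, h3⟩

/-- the fixed elements -/
theorem fixed [Infinite k] {a1 a2 a3 : k} {w : Y} (hw : ∀ g, φ g * w = w * φ g)
    (hw1 : ∀ g, α (φ g) * w = w * α (φ g)) (hw2 : ∀ g, α (α (φ g)) * w = w * α (α (φ g)))
    (hw' : ∀ g, φ g * α w = α w * φ g)
    (h : α (φ (uu a1) * (α (φ (uu a2)) * (α (α (φ (uu a3))) * w))) =
      φ (uu a1) * (α (φ (uu a2)) * (α (α (φ (uu a3))) * w))) :
    a2 = a1 ∧ a3 = a1 ∧ κ * a1 ^ Q = a1 ∧ α w = w := by
  have hw1' : ∀ g, α (φ g) * α w = α w * α (φ g) := fun g => by rw [← map_mul, ← map_mul, hw]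
  have hw2' : ∀ g, α (α (φ g)) * α w = α w * α (α (φ g)) := fun g => by rw [← map_mul, ← map_mul, hw1]
  have e : α (φ (uu a1) * (α (φ (uu a2)) * (α (α (φ (uu a3))) * w))) =
      φ (uu (κ * a3 ^ Q)) * (α (φ (uu a1)) * (α (α (φ (uu a2))) * α w)) := by
    rw [map_mul, map_mul, map_mul, O.up]
    calc α (φ (uu a1)) * (α (α (φ (uu a2))) * (φ (uu (κ * a3 ^ Q)) * α w))
        = α (φ (uu a1)) * (α (α (φ (uu a2))) * φ (uu (κ * a3 ^ Q))) * α w := by group
      _ = (α (φ (uu a1)) * φ (uu (κ * a3 ^ Q))) * α (α (φ (uu a2))) * α w := by rw [← O.c2]; group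
      _ = _ := by rw [← O.c1]; group
  rw [e] at h
  obtain ⟨h1, h2, h3, h4⟩ := O.uniq hw' hw1' hw2' hw hw1 hw2 h
  refine ⟨h2.symm, ?_, ?_, h4⟩
  · rw [← h3, h2]
  · rw [← h3, ← h2] at h1
    exact h1

theorem Ph_mul (a b : SpecialLinearGroup (Fin 2) k) : Ph α φ (a * b) = Ph α φ a * Ph α φ b := by
  unfold Ph
  rw [map_mul, map_mul, map_mul]
  calc φ a * φ b * (α (φ a) * α (φ b)) * (α (α (φ a)) * α (α (φ b)))
      = φ a * (φ b * α (φ a)) * (α (φ b) * α (α (φ a))) * α (α (φ b)) := by group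
    _ = φ a * α (φ a) * (φ b * α (α (φ a))) * (α (φ b) * α (α (φ b))) := by rw [O.c1, O.c1']; group
    _ = _ := by rw [O.c2]; group

/-- the product over the orbit as a homomorphism -/
def PhH : SpecialLinearGroup (Fin 2) k →* Y := MonoidHom.mk' (Ph α φ) O.Ph_mul

theorem PhH_apply (g : SpecialLinearGroup (Fin 2) k) : O.PhH g = φ g * α (φ g) * α (α (φ g)) := rfl

theorem PhH_inj [Infinite k] {a b : k} (h : O.PhH (uu a) = O.PhH (uu b)) : a = b := by
  refine (O.uniq (a1 := a) (a2 := a) (a3 := a) (b1 := b) (b2 := b) (b3 := b) (w := 1) (w' := 1) ?_ ?_ ?_ ?_ ?_ ?_ ?_).1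
  · intro g; rw [mul_one, one_mul]
  · intro g; rw [mul_one, one_mul]
  · intro g; rw [mul_one, one_mul]
  · intro g; rw [mul_one, one_mul]
  · intro g; rw [mul_one, one_mul]
  · intro g; rw [mul_one, one_mul]
  · rw [O.PhH_apply, O.PhH_apply] at h
    rw [mul_one, mul_one, ← mul_assoc, ← mul_assoc, h]

/-- the twisted homomorphism -/
theorem exists_twist [IsAlgClosed k] (hQ : 2 ≤ Q) : ∃ μ : k, μ ≠ 0 ∧ κ * μ ^ Q = μ := Hei.exists_ne hQ O.hκ

omit O in
theorem dd_eq {a : k} (ha : a ≠ 0) :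
    dd a ha = uu a * ll (-a⁻¹) * uu a * (uu (-1) * ll 1 * uu (-1)) := by
  apply Subtype.ext
  show (!![a, 0; 0, a⁻¹] : Matrix (Fin 2) (Fin 2) k) = !![1, a; 0, 1] * !![1, 0; -a⁻¹, 1] * !![1, a; 0, 1] *
    (!![1, -1; 0, 1] * !![1, 0; 1, 1] * !![1, -1; 0, 1])
  simp only [Matrix.mul_fin_two]
  ext i j
  fin_cases i <;> fin_cases j <;> simp [ha]

omit O [Group Y] in
/-- the element exchanging upper and lower -/
theorem ll_eq (t : k) : (uu 1 * ll (-1) * uu 1 : SpecialLinearGroup (Fin 2) k)⁻¹ * uu (-t) * (uu 1 * ll (-1) * uu 1) = ll t := by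
  rw [mul_assoc, inv_mul_eq_iff_eq_mul]
  apply Subtype.ext
  show (!![1, -t; 0, 1] : Matrix (Fin 2) (Fin 2) k) * (!![1, 1; 0, 1] * !![1, 0; -1, 1] * !![1, 1; 0, 1]) =
    !![1, 1; 0, 1] * !![1, 0; -1, 1] * !![1, 1; 0, 1] * !![1, 0; t, 1]
  simp only [Matrix.mul_fin_two]
  ext i j
  fin_cases i <;> fin_cases j <;> simp

/-- **A subgroup normalised by the fixed points contains the torus elements.** -/
theorem main [IsAlgClosed k] (hQ : 2 ≤ Q) (F : Subfield k) [Finite F] (hF : ∀ x, x ∈ F ↔ x ^ Q = x)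
    {R C : Subgroup Y} (hRC : ∀ c ∈ C, ∀ x ∈ R, c * x * c⁻¹ ∈ R)
    (hC : ∀ g, α (O.PhH g) = O.PhH g → O.PhH g ∈ C)
    {a1 a2 a3 : k} {w : Y} (hw : ∀ g, φ g * w = w * φ g)
    (hw1 : ∀ g, α (φ g) * w = w * α (φ g)) (hw2 : ∀ g, α (α (φ g)) * w = w * α (α (φ g)))
    (hw' : ∀ g, φ g * α w = α w * φ g)
    (hv : α (φ (uu a1) * (α (φ (uu a2)) * (α (α (φ (uu a3))) * w))) =
      φ (uu a1) * (α (φ (uu a2)) * (α (α (φ (uu a3))) * w)))
    (hvR : φ (uu a1) * (α (φ (uu a2)) * (α (α (φ (uu a3))) * w)) ∈ R)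
    (hne : φ (uu a1) * (α (φ (uu a2)) * (α (α (φ (uu a3))) * w)) ≠ w)
    {t : ℕ} (ht : t.Prime) (ht2 : t ≠ 2) {a : k} (ha : IsPrimitiveRoot a t) (haQ : a ^ Q = a) :
    ∃ y ∈ R, y ^ t = 1 ∧ y ≠ 1 := by
  obtain ⟨rfl, rfl, hc, -⟩ := O.fixed hw hw1 hw2 hw' hv
  have ha0 : a ≠ 0 := ha.ne_zero ht.ne_zero
  have hasq : a ^ 2 ≠ 1 := by
    intro h
    have h1 := ha.dvd_of_pow_eq_one _ h
    exact ht2 ((Nat.prime_dvd_prime_iff_eq ht Nat.prime_two).1 h1)
  obtain ⟨μ, hμ, hμ1⟩ := O.exists_twist hQ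
  obtain ⟨ν, hν⟩ := IsAlgClosed.exists_pow_nat_eq μ (n := 2) (by norm_num)
  have hν0 : ν ≠ 0 := by
    rintro rfl
    rw [zero_pow two_ne_zero] at hν
    exact hμ hν.symm
  have hinf : Infinite k := IsAlgClosed.instInfinite
  -- the twisted homomorphism
  set d := dd ν hν0 with hd
  set Ψ : SpecialLinearGroup (Fin 2) k →* Y := O.PhH.comp (MulAut.conj d).toMonoidHom with hΨ
  have hΨa : ∀ g, Ψ g = O.PhH (d * g * d⁻¹) := fun g => rfl
  have hΨu : ∀ s, Ψ (uu s) = O.PhH (uu (μ * s)) := fun s => by rw [hΨa, hd, dd_uu, hν]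
  have hΨl : ∀ s, Ψ (ll s) = O.PhH (ll (μ⁻¹ * s)) := fun s => by rw [hΨa, hd, dd_ll, hν]
  have hfixu : ∀ s, s ^ Q = s → α (Ψ (uu s)) = Ψ (uu s) := by
    intro s hs
    rw [hΨu, O.PhH_apply, map_mul, map_mul, O.up]
    have e1 : κ * (μ * s) ^ Q = μ * s := by rw [mul_pow, hs, ← mul_assoc, hμ1]
    rw [e1, mul_assoc, ← O.c2, ← mul_assoc, ← O.c1]
  have hμ2 : κ⁻¹ * (μ⁻¹) ^ Q = μ⁻¹ := by rw [inv_pow, ← mul_inv, hμ1]
  have hfixl : ∀ s, s ^ Q = s → α (Ψ (ll s)) = Ψ (ll s) := by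
    intro s hs
    rw [hΨl, O.PhH_apply, map_mul, map_mul, O.lo]
    have e1 : κ⁻¹ * (μ⁻¹ * s) ^ Q = μ⁻¹ * s := by rw [mul_pow, hs, ← mul_assoc, hμ2]
    rw [e1, mul_assoc, ← O.c2, ← mul_assoc, ← O.c1]
  -- the elements mapped to `C`
  let GG : Subgroup (SpecialLinearGroup (Fin 2) k) := C.comap Ψ
  have hGu : ∀ s, s ^ Q = s → uu s ∈ GG := fun s hs => by
    have h1 := hfixu s hs
    rw [hΨa] at h1
    exact hC _ h1
  have hGl : ∀ s, s ^ Q = s → ll s ∈ GG := fun s hs => by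
    have h1 := hfixl s hs
    rw [hΨa] at h1
    exact hC _ h1
  have hnegQ : ∀ s : k, s ^ Q = s → (-s) ^ Q = -s := fun s hs =>
    (hF _).1 (F.neg_mem ((hF _).2 hs))
  have hinvQ : ∀ s : k, s ^ Q = s → (s⁻¹) ^ Q = s⁻¹ := fun s hs => by rw [inv_pow, hs]
  have hone : (1 : k) ^ Q = 1 := one_pow Q
  have hGd : ∀ (s : k) (hs0 : s ≠ 0), s ^ Q = s → dd s hs0 ∈ GG := by
    intro s hs0 hs
    rw [dd_eq hs0]
    exact mul_mem (mul_mem (mul_mem (hGu s hs) (hGl _ (hnegQ _ (hinvQ s hs)))) (hGu s hs))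
      (mul_mem (mul_mem (hGu _ (hnegQ 1 hone)) (hGl 1 hone)) (hGu _ (hnegQ 1 hone)))
  -- the elements mapped to `R`
  let NN : Subgroup (SpecialLinearGroup (Fin 2) k) := R.comap Ψ
  have hNG : ∀ g ∈ GG, ∀ x ∈ NN, g * x * g⁻¹ ∈ NN := by
    intro g hg x hx
    show Ψ (g * x * g⁻¹) ∈ R
    rw [map_mul, map_mul, map_inv]
    exact hRC _ hg _ hx
  -- a first element
  set c0 := μ⁻¹ * a3 with hc0
  have ha3 : a3 = μ * c0 := by rw [hc0, ← mul_assoc, mul_inv_cancel₀ hμ, one_mul]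
  have hc0Q : c0 ^ Q = c0 := by
    rw [ha3, mul_pow, ← mul_assoc, hμ1] at hc
    exact mul_left_cancel₀ hμ hc
  have hc00 : c0 ≠ 0 := by
    intro h0
    apply hne
    rw [ha3, h0, mul_zero, uu_zero, map_one, map_one, map_one, one_mul, one_mul, one_mul]
  have hv2 : φ (uu a3) * (α (φ (uu a3)) * (α (α (φ (uu a3))) * w)) = Ψ (uu c0) * w := by
    rw [hΨu, ← ha3, O.PhH_apply]
    group
  rw [hv2] at hvR
  have hwΨ : ∀ g, Ψ g * w = w * Ψ g := by
    intro g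
    rw [hΨa, O.PhH_apply]
    calc _ = φ (d * g * d⁻¹) * α (φ (d * g * d⁻¹)) * (α (α (φ (d * g * d⁻¹))) * w) := by group
      _ = φ (d * g * d⁻¹) * (α (φ (d * g * d⁻¹)) * w) * α (α (φ (d * g * d⁻¹))) := by rw [hw2]; group
      _ = (φ (d * g * d⁻¹) * w) * α (φ (d * g * d⁻¹)) * α (α (φ (d * g * d⁻¹))) := by rw [hw1]; group
      _ = _ := by rw [hw]; group
  have hfirst : uu ((a ^ 2 - 1) * c0) ∈ NN := by
    have h1 := hRC _ (hGd a ha0 haQ) _ hvR
    have h2 := mul_mem h1 (inv_mem hvR)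
    have e : Ψ (dd a ha0) * (Ψ (uu c0) * w) * (Ψ (dd a ha0))⁻¹ * (Ψ (uu c0) * w)⁻¹ = Ψ (uu ((a ^ 2 - 1) * c0)) := by
      have e1 : w * (Ψ (dd a ha0))⁻¹ = (Ψ (dd a ha0))⁻¹ * w := by
        have := hwΨ (dd a ha0)⁻¹
        rw [map_inv] at this
        exact this.symm
      calc _ = Ψ (dd a ha0) * Ψ (uu c0) * (w * (Ψ (dd a ha0))⁻¹) * w⁻¹ * (Ψ (uu c0))⁻¹ := by group
        _ = Ψ (dd a ha0) * Ψ (uu c0) * ((Ψ (dd a ha0))⁻¹ * w) * w⁻¹ * (Ψ (uu c0))⁻¹ := by rw [e1]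
        _ = Ψ (dd a ha0 * uu c0 * (dd a ha0)⁻¹) * (Ψ (uu c0))⁻¹ := by
          rw [map_mul, map_mul, map_inv]; group
        _ = _ := by
          rw [dd_uu, mul_inv_eq_iff_eq_mul, ← map_mul, ← uu_add]
          congr 2
          ring
    rw [e] at h2
    exact h2
  set c1 := (a ^ 2 - 1) * c0 with hc1
  have hc10 : c1 ≠ 0 := mul_ne_zero (sub_ne_zero.2 hasq) hc00
  have hc1F : c1 ∈ F := F.mul_mem (F.sub_mem (F.pow_mem ((hF a).2 haQ) 2) F.one_mem) ((hF _).2 hc0Q)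
  -- all upper elements
  let S : AddSubgroup F :=
    { carrier := {s | uu (c1 * (s : k)) ∈ NN}
      add_mem' := by
        intro x y hx hy
        show uu (c1 * ((x + y : F) : k)) ∈ NN
        rw [Subfield.coe_add, mul_add, uu_add]
        exact mul_mem hx hy
      zero_mem' := by
        show uu (c1 * ((0 : F) : k)) ∈ NN
        rw [Subfield.coe_zero, mul_zero, uu_zero]
        exact one_mem _
      neg_mem' := by
        intro x hx
        show uu (c1 * ((-x : F) : k)) ∈ NN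
        have e1 : uu (c1 * ((-x : F) : k)) = (uu (c1 * (x : k)))⁻¹ := by
          rw [eq_inv_iff_mul_eq_one, ← uu_add, ← mul_add, Subfield.coe_neg, neg_add_cancel, mul_zero, uu_zero]
        rw [e1]
        exact inv_mem hx }
  have hS : S = ⊤ := by
    apply Cfsg.Agent.KFacts.RgdChevCoord.closure_sq
    intro c hc
    have hck : (c : k) ≠ 0 := fun h => hc (Subtype.ext h)
    show uu (c1 * ((c ^ 2 : F) : k)) ∈ NN
    have e0 : ((c ^ 2 : F) : k) = (c : k) ^ 2 := rfl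
    rw [e0, mul_comm, ← dd_uu hck]
    exact hNG _ (hGd _ hck ((hF _).1 c.2)) _ hfirst
  have hNu : ∀ s, s ^ Q = s → uu s ∈ NN := by
    intro s hs
    have h1 : (⟨c1⁻¹ * s, F.mul_mem (F.inv_mem hc1F) ((hF _).2 hs)⟩ : F) ∈ S := by rw [hS]; trivial
    have h2 : uu (c1 * (c1⁻¹ * s)) ∈ NN := h1
    rwa [← mul_assoc, mul_inv_cancel₀ hc10, one_mul] at h2
  have hNl : ∀ s, s ^ Q = s → ll s ∈ NN := by
    intro s hs
    rw [← ll_eq s]
    have hg : (uu 1 * ll (-1) * uu 1 : SpecialLinearGroup (Fin 2) k)⁻¹ ∈ GG :=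
      inv_mem (mul_mem (mul_mem (hGu 1 hone) (hGl _ (hnegQ 1 hone))) (hGu 1 hone))
    have h1 := hNG _ hg _ (hNu _ (hnegQ s hs))
    rwa [inv_inv] at h1
  have hNd : dd a ha0 ∈ NN := by
    rw [dd_eq ha0]
    exact mul_mem (mul_mem (mul_mem (hNu a haQ) (hNl _ (hnegQ _ (hinvQ a haQ)))) (hNu a haQ))
      (mul_mem (mul_mem (hNu _ (hnegQ 1 hone)) (hNl 1 hone)) (hNu _ (hnegQ 1 hone)))
  refine ⟨Ψ (dd a ha0), hNd, ?_, fun h1 => ?_⟩
  · rw [← map_pow]
    have e : (dd a ha0) ^ t = 1 := by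
      have h2 : ∀ n : ℕ, (dd a ha0) ^ n = dd (a ^ n) (pow_ne_zero n ha0) := by
        intro n
        induction n with
        | zero =>
          apply Subtype.ext
          rw [pow_zero]
          show (1 : Matrix (Fin 2) (Fin 2) k) = !![a ^ 0, 0; 0, (a ^ 0)⁻¹]
          ext i j
          fin_cases i <;> fin_cases j <;> simp
        | succ n ih =>
          rw [pow_succ, ih]
          apply Subtype.ext
          show (!![a ^ n, 0; 0, (a ^ n)⁻¹] : Matrix (Fin 2) (Fin 2) k) * !![a, 0; 0, a⁻¹] =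
            !![a ^ (n + 1), 0; 0, (a ^ (n + 1))⁻¹]
          rw [Matrix.mul_fin_two]
          ext i j
          fin_cases i <;> fin_cases j <;> simp [pow_succ, mul_comm]
      rw [h2]
      apply Subtype.ext
      show (!![a ^ t, 0; 0, (a ^ t)⁻¹] : Matrix (Fin 2) (Fin 2) k) = 1
      rw [ha.pow_eq_one]
      ext i j
      fin_cases i <;> fin_cases j <;> simp
    rw [e, map_one]
  · have h2 : Ψ (uu (a ^ 2 * 1)) = Ψ (uu 1) := by
      rw [← dd_uu ha0, map_mul, map_mul, map_inv, h1, one_mul, inv_one, mul_one]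
    rw [hΨu, hΨu] at h2
    have h3 := O.PhH_inj h2
    have h4 := mul_left_cancel₀ hμ h3
    rw [mul_one] at h4
    exact hasq h4

end Orb

end orb

end Cfsg.Agent.H39.TD
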