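import Cfsg.Agent.H39.TD.Ncl
import Cfsg.Agent.H566.TD.Phi
import Cfsg.Agent.H798.RG.LongRoot
import Cfsg.Agent.H165.WL.FG
import Cfsg.Agent.H864.TD.Asm

/-!
# S3509, `³D₄(q)`: box T4 (helper39)

`hM_of` : the box `HM m` from the case of an orbit of length three (`Three m`, helper256).
-/

set_option autoImplicit false
set_option linter.unusedSectionVars false
open Cfsg

namespace Cfsg.Agent.H39.TD

open CoxeterSystem Cfsg.Lie Cfsg.Lie.ChevalleyDatum Cfsg.Agent.H873.RG Cfsg.Agent.H316.U6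
open Cfsg.Agent.ChevalleyStructure Cfsg.Agent.ChevalleyStructure.CoxeterGeom
  Cfsg.Agent.ChevalleyStructure.CoxeterGeomTypes Cfsg.Agent.Nodes Cfsg.Agent.Nodes.RGDChev Cfsg.Agent.Nodes.BNOf
  Cfsg.Agent.KFacts.RgdField Cfsg.Agent.KFacts.RgdChevCoord
open Cfsg.Agent.Tits.Roots
open Cfsg.Agent.BpExc Cfsg.Agent.BpExc.TorCent Cfsg.Agent.BpExc.Pair Cfsg.Agent.BpExc.LangFr Cfsg.Agent.H469.Exc
open Cfsg.Agent.H169.RG Cfsg.Agent.H694.RG Cfsg.Agent.H864.TD
open Cfsg.Agent.H720.TwFr (permE rho4)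

/-- all roots of `D₄` are long -/
theorem long_D4 {β : Fin 4 → ℤ} (hβ : IsRoot coxeterD4.toCoxeterSystem RGDTwD4.hp.isCartan β) :
    ∃ w : coxeterD4.Group, β = rep coxeterD4.toCoxeterSystem RGDTwD4.hp.isCartan w (vec chevD4 4 (chevD4.nroots - 1)) := by
  obtain ⟨j, hj, rfl⟩ := (isRoot_iff RGDTwD4.hp coxeterD4.toCoxeterSystem β).1 hβ
  have h1 := H165.WL.exists_w_of_chain RGDTwD4.hp coxeterD4.toCoxeterSystem H165.WL.LD [chevD4.nroots - 1] (by
    intro r hr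
    rw [List.mem_singleton] at hr
    subst hr
    exact ⟨by decide, 1, by rw [map_one, Module.End.one_apply]⟩) H165.WL.chainD
  have h2 : ∀ j < chevD4.nroots, j = chevD4.nroots - 1 ∨ j ∈ H165.WL.LD := by decide +kernel
  rcases h2 j hj with rfl | h3
  · exact ⟨1, by rw [map_one, Module.End.one_apply]⟩
  · exact (h1 j h3).2

variable {r q : ℕ} [hr : Fact r.Prime] {K₀ : Type} [Group K₀] [Finite K₀] (m : MData RGDTwD4.hp r q K₀)

theorem lrg : Lrg m := fun f _ hb hθ _ hx hα h1 => by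
  obtain ⟨w, h⟩ := long_D4 hb
  exact Cfsg.Agent.H798.RG.lr_of_mem f h hθ hx hα h1

/-- **T4** -/
theorem hM_of (hg : m.g = permE rho4) (hdd : m.dd = 1) (h3 : Three m) : HM m :=
  fun _ _ hs hs1 _ hd hsd hu hus hu1 hur =>
    ncl_of m (fun hs1 f _ hΦ => Cfsg.Agent.H566.TD.phi_cases m hg hdd hs1 f hΦ) (lrg m) h3 hs hs1 hd hsd hu hus hu1 hur

end Cfsg.Agent.H39.TD
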